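import Groth.Prelude.Def_EtDepth
import Groth.Agent.GalCohAux.EtDev
import Groth.Agent.GalCohAux.EtTorsion
import Groth.Agent.EtConsAb.FinPush
import Groth.Agent.EtaleSite.PushIntegral
import Groth.Agent.EtaleSite.AdjExt
import Groth.Agent.EtaleSite.Pull

/-!
# Top degree cohomology of fields of cohomological dimension `n`

Shapiro's lemma in the form needed, corestriction in the top degree.
-/

set_option autoImplicit false
set_option backward.isDefEq.respectTransparency false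

universe u

open CategoryTheory CategoryTheory.Limits AlgebraicGeometry Opposite

noncomputable section

namespace Groth.Agent.EtCdTop

open EtaleSite GalCohAux

section Shapiro

variable {X Y : Scheme.{u}} (f : X ⟶ Y) [IsFinite f]

theorem toExt_push_bijective (G : EtCoh.Ab X) (n : ℕ) :
    Function.Bijective (AdjExt.toExt (EtCoh.pullPushAdj f) (EtCoh.const Y ℤ) G n) :=
  AdjExt.toExt_bijective _ n _ G fun q hq => by
    obtain ⟨k, rfl⟩ : ∃ k, q = k + 1 := ⟨q - 1, by omega⟩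
    exact Flasque.isZero_rightDerived_of_exact (EtCoh.push f) k G

theorem subsingleton_of_push (G : EtCoh.Ab X) (n : ℕ) (h : Subsingleton (EtCoh.H Y ((EtCoh.push f).obj G) n)) :
    Subsingleton (EtCoh.H X G n) := by
  refine ⟨fun a b => ?_⟩
  obtain ⟨a', ha⟩ := (toExt_push_bijective f G n).2 ((Abelian.Ext.mk₀ (EtCore.pullConst f ℤ).hom).comp a (zero_add n))
  obtain ⟨b', hb⟩ := (toExt_push_bijective f G n).2 ((Abelian.Ext.mk₀ (EtCore.pullConst f ℤ).hom).comp b (zero_add n))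
  have e : (Abelian.Ext.mk₀ (EtCore.pullConst f ℤ).hom).comp a (zero_add n) =
      (Abelian.Ext.mk₀ (EtCore.pullConst f ℤ).hom).comp b (zero_add n) := by
    rw [← ha, ← hb, h.elim a' b']
  simpa using congrArg (fun t => (Abelian.Ext.mk₀ (EtCore.pullConst f ℤ).inv).comp t (zero_add n)) e

theorem subsingleton_push (G : EtCoh.Ab X) (n : ℕ) (h : Subsingleton (EtCoh.H X G n)) :
    Subsingleton (EtCoh.H Y ((EtCoh.push f).obj G) n) := by
  refine ⟨fun a b => (toExt_push_bijective f G n).1 ?_⟩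
  have : ∀ t : Abelian.Ext ((EtCoh.pull f).obj (EtCoh.const Y ℤ)) G n,
      t = (Abelian.Ext.mk₀ (EtCore.pullConst f ℤ).hom).comp
        ((Abelian.Ext.mk₀ (EtCore.pullConst f ℤ).inv).comp t (zero_add n)) (zero_add n) := fun t => by simp
  rw [this (AdjExt.toExt _ _ _ _ a), this (AdjExt.toExt _ _ _ _ b)]
  exact congrArg (fun t => (Abelian.Ext.mk₀ (EtCore.pullConst f ℤ).hom).comp t (zero_add n)) (h.elim _ _)

theorem nsmul_id_push {G : EtCoh.Ab X} {m : ℕ} (h : m • 𝟙 G = 0) : m • 𝟙 ((EtCoh.push f).obj G) = 0 := by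
  have : (EtCoh.push f).Additive := (EtCoh.pullPushAdj f).right_adjoint_additive
  rw [← CategoryTheory.Functor.map_id, ← Functor.map_nsmul, h, Functor.map_zero]

end Shapiro

theorem isLTorsion_of_nsmul_id {X : Scheme.{u}} {ℓ k : ℕ} {G : EtCoh.Ab X} (h : ℓ ^ k • 𝟙 G = 0) :
    EtDepth.IsLTorsion ℓ G := fun U s x =>
  ⟨U, 𝟙 U, ⟨x, rfl⟩, k, EtNsmul.nsmul_sect_eq_zero h U _⟩

theorem isTorsion_of_isLTorsion {X : Scheme.{u}} {ℓ : ℕ} (hℓ : 0 < ℓ) {G : EtCoh.Ab X}
    (h : EtDepth.IsLTorsion ℓ G) : EtCoh.IsTorsion G := fun U s x => by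
  obtain ⟨V, g, hv, k, hk⟩ := h U s x
  exact ⟨V, g, hv, isOfFinAddOrder_iff_nsmul_eq_zero.2 ⟨ℓ ^ k, pow_pos hℓ k, hk⟩⟩

theorem exists_pow_nsmul_stalk {X : Scheme.{u}} {ℓ : ℕ} {G : EtCoh.Ab X} (hG : EtDepth.IsLTorsion ℓ G)
    {Ω : Type u} [Field Ω] [IsSepClosed Ω] (ξ : Spec (CommRingCat.of Ω) ⟶ X)
    (p : ↑((EtCoh.stalk ξ).obj G)) : ∃ k, ℓ ^ k • p = 0 := by
  obtain ⟨U, x, s, rfl⟩ := exists_germ_eq ξ G p
  let S : Sieve U :=
    { arrows := fun V => setOf (fun g : V ⟶ U => ∃ k, ℓ ^ k • G.obj.map g.op s = 0)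
      downward_closed := fun {V W} g hg h => by
        obtain ⟨k, hk⟩ := hg
        show ∃ k, ℓ ^ k • G.obj.map (h ≫ g).op s = 0
        exact ⟨k, by rw [op_comp, Functor.map_comp, CategoryTheory.comp_apply, ← map_nsmul, hk, map_zero]⟩ }
  have hS : S ∈ X.smallEtaleTopology U := mem_topology_of_forall_exists S fun u => by
    obtain ⟨V, g, ⟨v, hv⟩, hg⟩ := hG U s u
    exact ⟨V, g, v, hg, hv⟩
  obtain ⟨V, g, ⟨k, hg⟩, y, rfl⟩ := (Scheme.pointSmallEtale ξ).jointly_surjective S hS x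
  exact ⟨k, by rw [← germ_res, ← map_nsmul, hg, map_zero]⟩

variable {K : Type u} [Field K] {p : ℕ} [Fact p.Prime]

local notation "SK" => Spec (CommRingCat.of K)

/-- A sheaf on a field with finite stalk is killed by `p ^ a` if its stalk is `p`-torsion. -/
theorem exists_pow_nsmul_id {G : EtCoh.Ab (SK)} [Finite ((EtCoh.stalk (EtFin.pt K)).obj G)]
    (h : ∀ e : ((EtCoh.stalk (EtFin.pt K)).obj G), ∃ k, p ^ k • e = 0) : ∃ a, p ^ a • 𝟙 G = 0 := by
  classical
  choose k hk using h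
  cases nonempty_fintype ((EtCoh.stalk (EtFin.pt K)).obj G)
  refine ⟨Finset.univ.sup k, hom_ext_of_stalk fun Ω _ _ ξ => ?_⟩
  obtain ⟨e⟩ := EtFin.nonempty_stalk_iso ξ G
  ext z
  rw [Functor.map_nsmul, CategoryTheory.Functor.map_id, Functor.map_zero]
  let E : ((EtCoh.stalk ξ).obj G ⟶ (EtCoh.stalk ξ).obj G) →+ ((EtCoh.stalk ξ).obj G →+ (EtCoh.stalk ξ).obj G) :=
    AddMonoidHom.mk' (fun a => a.hom) fun a b => rfl
  show E (p ^ Finset.univ.sup k • 𝟙 _) z = 0
  rw [map_nsmul, AddMonoidHom.nsmul_apply]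
  show p ^ Finset.univ.sup k • z = 0
  let q := e.addCommGroupIsoToAddEquiv
  refine q.injective ?_
  rw [map_nsmul, map_zero]
  obtain ⟨r, hr⟩ := Nat.exists_eq_add_of_le (Finset.le_sup (f := k) (Finset.mem_univ (q z)))
  rw [hr, pow_add, mul_comm, mul_nsmul', hk, nsmul_zero]

/-- Cohomology classes of `ℓ`-torsion sheaves on a field are killed by powers of `ℓ`. -/
theorem exists_pow_nsmul_H {G : EtCoh.Ab (SK)} (hG : EtDepth.IsLTorsion p G) {q : ℕ}
    (x : EtCoh.H (SK) G q) : ∃ a, p ^ a • x = 0 := by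
  obtain ⟨hc⟩ := EtFin.nonempty_isColimit (isTorsion_of_isLTorsion (Fact.out : p.Prime).pos hG)
  obtain ⟨hs, -⟩ := EtColimBig.coh_colimit q hc
  obtain ⟨B, y, rfl⟩ := hs x
  have : Finite ((EtCoh.stalk (EtFin.pt K)).obj (EtFin.sub B.1)) := (EtFin.finStalk_sub B).1
  obtain ⟨a, ha⟩ := exists_pow_nsmul_id (p := p) (G := EtFin.sub B.1) fun e => by
    obtain ⟨k, hk⟩ := exists_pow_nsmul_stalk hG _ ((EtCoh.stalk (EtFin.pt K)).map (EtFin.subι B.1) e)
    exact ⟨k, EtFin.stalk_subι_injective B.1 (by rw [map_nsmul, hk, map_zero])⟩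
  refine ⟨a, ?_⟩
  exact (map_nsmul _ _ _).symm.trans ((congrArg _ (EtNsmul.nsmul_H_eq_zero ha y)).trans (map_zero _))


theorem goodZ_of_cohDimLLE {n : ℕ} (hcd : EtDepth.CohDimLLE (SK) p n) {M : Type u} [Field M] [Algebra K M]
    [FiniteDimensional K M] [Algebra.IsSeparable K M] {q : ℕ} (hq : n < q) : EtDev.GoodZ M p q := by
  intro M' _ _ _ _ _
  letI : Algebra K M' := ((algebraMap M M').comp (algebraMap K M)).toAlgebra
  haveI : IsScalarTower K M M' := .of_algebraMap_eq' rfl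
  haveI : FiniteDimensional K M' := FiniteDimensional.trans K M M'
  let f := Spec.map (CommRingCat.ofHom (algebraMap K M'))
  haveI : IsFinite f := (IsFinite.SpecMap_iff _).2 (RingHom.finite_algebraMap.2 inferInstance)
  refine subsingleton_of_push f _ q (hcd _ ?_ q hq)
  exact isLTorsion_of_nsmul_id (k := 1) (by rw [pow_one]; exact nsmul_id_push f EtDev.nsmul_id_const_zmod)

omit [Fact p.Prime] in
theorem faithful_pull {X Y : Scheme.{u}} (f : X ⟶ Y) [Etale f] [Surjective f] : (EtCoh.pull f).Faithful where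
  map_injective {F G} a b h := hom_ext_of_stalk fun Ω _ _ ξ => by
    obtain ⟨y, hy⟩ := f.surjective (ξ default)
    obtain ⟨l, hw⟩ : ∃ l : Spec (CommRingCat.of Ω) ⟶ X, l ≫ f = ξ := by
      obtain ⟨φ, -⟩ := exists_fiber_point ξ (Scheme.Etale.mk f) y (hy.trans (congrArg _ (Subsingleton.elim _ _)))
      exact ⟨φ.left, Over.w φ⟩
    subst hw
    let e := stalkPullIso f l
    have h1 := e.hom.naturality a
    have h2 := e.hom.naturality b
    refine (cancel_epi (e.hom.app F)).1 ?_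
    rw [← h1, ← h2]
    exact congrArg (fun t => (EtCoh.stalk l).map t ≫ e.hom.app G) h

/-- Corestriction is surjective in the top degree. -/
theorem subsingleton_of_extension {M M' : Type u} [Field M] [Field M'] [Algebra M M'] [FiniteDimensional M M']
    [Algebra.IsSeparable M M'] {n : ℕ} (hgood : EtDev.GoodZ M p (n + 1))
    (h : Subsingleton (EtCoh.H (Spec (CommRingCat.of M')) (EtCoh.const (Spec (CommRingCat.of M')) (ZMod p)) n)) :
    Subsingleton (EtCoh.H (Spec (CommRingCat.of M)) (EtCoh.const (Spec (CommRingCat.of M)) (ZMod p)) n) := by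
  let f := Spec.map (CommRingCat.ofHom (algebraMap M M'))
  haveI : IsFinite f := (IsFinite.SpecMap_iff _).2 (RingHom.finite_algebraMap.2 inferInstance)
  haveI : Etale f := EtTrace.etale_field (K := M) M'
  haveI : Surjective f := ⟨fun x => ⟨(⟨⊥, Ideal.isPrime_bot⟩ : PrimeSpectrum M'),
    Subsingleton.elim (α := PrimeSpectrum M) _ _⟩⟩
  obtain ⟨e⟩ := EtConsAb.nonempty_extZero_iso_push f
  have := faithful_pull f
  have : ∀ G, Epi ((EtSupp.extPullAdj f).counit.app G) := fun G => inferInstance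
  let C := EtCoh.const (Spec (CommRingCat.of M)) (ZMod p)
  let P := (EtCoh.push f).obj (EtCoh.const (Spec (CommRingCat.of M')) (ZMod p))
  let c : P ⟶ C := (EtCoh.push f).map (EtCore.pullConst f (ZMod p)).inv ≫ e.inv.app _ ≫
    (EtSupp.extPullAdj f).counit.app C
  have hc : Epi c := epi_comp _ _
  let S : ShortComplex (EtCoh.Ab (Spec (CommRingCat.of M))) := ShortComplex.mk (kernel.ι c) c (kernel.condition c)
  have hS : S.ShortExact := { exact := ShortComplex.exact_kernel c }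
  have hP : p • 𝟙 P = 0 := nsmul_id_push f EtDev.nsmul_id_const_zmod
  have hker : p • 𝟙 (kernel c) = 0 := by
    rw [← cancel_mono (kernel.ι c), zero_comp, Preadditive.nsmul_comp, Category.id_comp, ← Category.comp_id (kernel.ι c),
      ← Preadditive.comp_nsmul, hP, comp_zero]
  refine subsingleton_of_forall_eq 0 fun x => ?_
  obtain ⟨y, hy⟩ := Abelian.Ext.covariant_sequence_exact₃ _ hS x (rfl : n + 1 = n + 1)
    (EtDev.torsion_vanish (Nat.succ_pos n) hgood _ (EtNsmul.isTorsion_of_nsmul_id (Fact.out : p.Prime).pos hker) _ 1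
      (by rw [pow_one]; exact EtNsmul.nsmul_H_eq_zero hker _))
  rw [← hy, (subsingleton_push f _ n h).elim y 0, Abelian.Ext.zero_comp]

/-- If `cd_p(K)` is exactly `n + 1`, some finite separable extension has nonzero `H^{n+1}(-, ℤ/p)`. -/
theorem exists_nontrivial {n : ℕ} (h : ¬ EtDepth.CohDimLLE (SK) p n) :
    ∃ (M : Type u) (_ : Field M) (_ : Algebra K M) (_ : FiniteDimensional K M) (_ : Algebra.IsSeparable K M),
      ¬ Subsingleton (EtCoh.H (Spec (CommRingCat.of M)) (EtCoh.const (Spec (CommRingCat.of M)) (ZMod p)) (n + 1)) := by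
  by_contra! hne
  refine h fun G hG q hq => subsingleton_of_forall_eq 0 fun x => ?_
  exact EtDev.cohDim_le (n := n) (fun M i1 i2 i3 i4 _ => hne M i1 i2 i3 i4) G
    (isTorsion_of_isLTorsion (Fact.out : p.Prime).pos hG) q hq x (exists_pow_nsmul_H hG x)

end Groth.Agent.EtCdTop
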