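import Groth.Agent.EtCdTop.Basic
import Groth.Agent.EtConsAb.Constructible
import Groth.Agent.EtConsAb.PullTriv
import Groth.Agent.EtConsAb.ConstMod
import Mathlib.LinearAlgebra.Basis.VectorSpace
import Mathlib.FieldTheory.SeparableClosure

/-!
# Constructible sheaves on a field become constant on a finite separable extension
-/

set_option autoImplicit false
set_option backward.isDefEq.respectTransparency false

universe u

open CategoryTheory CategoryTheory.Limits AlgebraicGeometry Opposite

noncomputable section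

namespace Groth.Agent.EtCdTop

open EtaleSite GalCohAux EtTrace

variable {K : Type u} [Field K]

local notation "SK" => Spec (CommRingCat.of K)

theorem isFLC_of_isConstructible {F : EtCoh.Ab (SK)} (hF : EtPBC.IsConstructible F) :
    EtCoh.IsFiniteLocallyConstant F := by
  obtain ⟨n, T, g, h1, -, -, h4, h5⟩ := hF ⊤ (isAffineOpen_top _)
  obtain ⟨i, t, ht⟩ := Set.mem_iUnion.1
    ((congrArg ((default : (SK : Scheme.{u})) ∈ ·) h4).mpr trivial)
  haveI := h1 i
  obtain ⟨s, hs⟩ := EtConsAb.exists_lift_of_isImmersion (g i) (𝟙 (SK)) t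
    (ht.trans (Subsingleton.elim (α := PrimeSpectrum K) _ _))
  have h := EtConsAb.isFLC_pull_comp (g i) s (h5 i)
  exact EtConsAb.isFLC_of_iso ((EtConsAb.pullCongr hs).app F ≪≫ (HpullComp.pullId (SK)).app F) h

/-- A constructible sheaf on a field becomes constant on a finite Galois extension. -/
theorem exists_constant {F : EtCoh.Ab (SK)} (hF : EtCoh.IsFiniteLocallyConstant F) :
    ∃ (L : Type u) (_ : Field L) (_ : Algebra K L) (_ : FiniteDimensional K L) (_ : Algebra.IsSeparable K L)
      (M : Type (u + 1)) (_ : AddCommGroup M) (_ : Finite M),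
      Nonempty (M ≃+ (EtCoh.stalk (EtFin.pt K)).obj F) ∧
      Nonempty (EtConsAb.constAb M (Spec (CommRingCat.of L)) ≅
        (EtCoh.pull (Spec.map (CommRingCat.ofHom (algebraMap K L)))).obj F) := by
  obtain ⟨V, φ, M, h₁, h₂, m, hm⟩ := EtConsAb.exists_isTriv hF (EtFin.pt K)
  obtain ⟨N, hN, hN', z, g, hz⟩ := EtDev.exists_galois_nbhd V φ
  haveI : Algebra.IsSeparable K N := inferInstance
  let f : Spec (CommRingCat.of N) ⟶ SK := Spec.map (CommRingCat.ofHom (algebraMap K N))
  have hf : f = (fld K N).hom := rfl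
  let d : EtCoh.top (Spec (CommRingCat.of N)) ⟶ (EtCoh.bc f).obj (fld K N) :=
    MorphismProperty.Over.homMk (pullback.lift (𝟙 _) (𝟙 _) rfl) (by
      first
      | exact pullback.lift_fst _ _ _
      | exact pullback.lift_snd _ _ _)
  have ht := ((hm.restrict g).pull f).restrict d
  let m' := ((((EtCoh.pull f).obj F).obj.map d.op).hom.comp
    ((EtConsAb.pullSect f F (fld K N)).comp ((F.obj.map g.op).hom.comp m)))
  let G := (EtCoh.pull f).obj F
  let χ : EtConsAb.constAb M (Spec (CommRingCat.of N)) ⟶ G :=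
    ((EtCore.constAdj (Spec (CommRingCat.of N))).homEquiv _ _).symm (AddCommGrpCat.ofHom m')
  have hχ : ∀ x : M, χ.hom.app (op (EtCoh.top _)) (ConstSections.cst (EtCoh.top _) (M := AddCommGrpCat.of M) x) = m' x :=
    fun x => (EtDev.constAdj_apply_cst χ x).trans
      (ConcreteCategory.congr_hom (Equiv.apply_symm_apply _ (AddCommGrpCat.ofHom m')) x)
  have : IsIso χ := isIso_of_stalk χ fun Ω _ _ ξ => by
    rw [ConcreteCategory.isIso_iff_bijective]
    obtain ⟨y, -⟩ := exists_fiber_point ξ (EtCoh.top (Spec (CommRingCat.of N))) (ξ default) (Subsingleton.elim (α := PrimeSpectrum N) _ _)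
    refine Function.Bijective.of_comp_iff _ (EtConsAb.isTriv_constSect M (EtCoh.top _) Ω ξ y) |>.1 ?_
    have e : (EtCoh.stalk ξ).map χ ∘ (fun x => germ ξ (EtConsAb.constAb M _) (EtCoh.top _) y (EtConsAb.constSect M _ x)) =
        fun x => germ ξ G (EtCoh.top _) y (m' x) :=
      funext fun x => (germ_naturality ξ χ _ y _).trans (congrArg _ (hχ x))
    rw [e]
    exact ht Ω ξ y
  exact ⟨N, inferInstance, inferInstance, hN, inferInstance, M, h₁, h₂,
    ⟨(hm.restrict g).stalkEquiv z⟩, ⟨asIso χ⟩⟩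

theorem exists_surjective {p : ℕ} [Fact p.Prime] (Q : Type*) [AddCommGroup Q] [Module (ZMod p) Q] [Nontrivial Q] :
    ∃ g : Q →+ ZMod p, Function.Surjective g := by
  let b := Module.Basis.ofVectorSpace (ZMod p) Q
  obtain ⟨i⟩ := b.index_nonempty
  exact ⟨(b.coord i).toAddMonoidHom, fun c => ⟨c • b i, by simp⟩⟩

theorem nonempty_hom_zmod {p : ℕ} [Fact p.Prime] {M : Type*} [AddCommGroup M] [Finite M] [Nontrivial M]
    (h : ∀ x : M, ∃ k, p ^ k • x = 0) : ∃ ψ : M →+ ZMod p, Function.Surjective ψ := by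
  classical
  let P : AddSubgroup M := (nsmulAddMonoidHom (α := M) p).range
  have hP : P ≠ ⊤ := fun htop => by
    have hs : Function.Surjective (nsmulAddMonoidHom (α := M) p) := AddMonoidHom.range_eq_top.1 htop
    have hi := Finite.injective_iff_surjective.2 hs
    obtain ⟨x, hx⟩ := exists_ne (0 : M)
    obtain ⟨k, hk⟩ := h x
    induction k with
    | zero => exact hx (by simpa using hk)
    | succ k ih =>
      refine ih (hi ?_)
      rw [map_zero, nsmulAddMonoidHom_apply, ← mul_nsmul', ← pow_succ', hk]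
  let Q := M ⧸ P
  have : Nontrivial Q := QuotientAddGroup.nontrivial_iff.2 hP
  letI : Module (ZMod p) Q := AddCommGroup.zmodModule fun q => by
    obtain ⟨x, rfl⟩ := QuotientAddGroup.mk'_surjective P q
    rw [← map_nsmul]
    exact (QuotientAddGroup.eq_zero_iff _).2 ⟨x, rfl⟩
  obtain ⟨g, hg⟩ := exists_surjective (p := p) Q
  exact ⟨g.comp (QuotientAddGroup.mk' P), hg.comp (QuotientAddGroup.mk'_surjective P)⟩

/-- The main statement. -/
theorem exists_nontrivial_H {p : ℕ} [Fact p.Prime] (F : EtCoh.Ab (SK)) (hF : EtDepth.IsLTorsion p F)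
    (hFc : EtPBC.IsConstructible F) (hF0 : ¬ IsZero F) (n : ℕ) (hcd : EtDepth.CohDimLLE (SK) p n)
    (hcd' : ∀ d : ℕ, d < n → ¬ EtDepth.CohDimLLE (SK) p d) :
    ∃ (L : Type u) (_ : Field L) (_ : Algebra K L) (_ : FiniteDimensional K L) (_ : Algebra.IsSeparable K L),
      Nontrivial (EtCoh.H (Spec (CommRingCat.of L))
        ((EtCoh.pull (Spec.map (CommRingCat.ofHom (algebraMap K L)))).obj F) n) := by
  have hp : p.Prime := Fact.out
  obtain ⟨L, i1, i2, i3, i4, M, _, _, ⟨σ⟩, ⟨χ⟩⟩ := exists_constant (isFLC_of_isConstructible hFc)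
  have hM : Nontrivial M := by
    by_contra h
    rw [not_nontrivial_iff_subsingleton] at h
    refine hF0 ((isZero_iff_stalk F).2 fun Ω _ _ ξ => ?_)
    obtain ⟨e⟩ := EtFin.nonempty_stalk_iso ξ F
    haveI : Subsingleton ((EtCoh.stalk (EtFin.pt K)).obj F) := σ.symm.toEquiv.subsingleton
    haveI : Subsingleton ((EtCoh.stalk ξ).obj F) := e.addCommGroupIsoToAddEquiv.toEquiv.subsingleton
    exact AddCommGrpCat.isZero_of_subsingleton _
  have hMp : ∀ x : M, ∃ k, p ^ k • x = 0 := fun x => by
    obtain ⟨k, hk⟩ := exists_pow_nsmul_stalk hF _ (σ x)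
    exact ⟨k, σ.injective (by rw [map_nsmul, hk, map_zero])⟩
  match n, hcd, hcd' with
  | 0, _, _ =>
    refine ⟨L, i1, i2, i3, i4, ?_⟩
    obtain ⟨x, hx⟩ := exists_ne (0 : M)
    let φ := (Flasque.evTop_bijective (EtConsAb.constAb M (Spec (CommRingCat.of L)))).2
      (EtConsAb.constSect M (EtCoh.top _) x)
    obtain ⟨ψ, hψ⟩ := φ
    refine nontrivial_of_ne (Abelian.Ext.mk₀ (ψ ≫ χ.hom)) 0 fun h => hx ?_
    rw [← Abelian.Ext.mk₀_zero] at h
    have h' := (Abelian.Ext.mk₀_bijective _ _).1 h
    rw [← zero_comp (f := χ.hom), cancel_mono] at h'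
    rw [h', EtDev.evTop_zero] at hψ
    obtain ⟨y, -⟩ := exists_fiber_point (EtFin.pt L) (EtCoh.top (Spec (CommRingCat.of L))) (EtFin.pt L default) (Subsingleton.elim (α := PrimeSpectrum L) _ _)
    refine (EtConsAb.isTriv_constSect M (EtCoh.top _) _ (EtFin.pt L) y).1 ?_
    show germ _ _ _ y _ = germ _ _ _ y _
    rw [← hψ, map_zero, map_zero, map_zero]
  | n + 1, hcd, hcd' =>
    obtain ⟨M₀, j1, j2, j3, j4, hne⟩ := exists_nontrivial (hcd' n (Nat.lt_succ_self n))
    -- a common extension
    let Ω := SeparableClosure K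
    let a : L →ₐ[K] Ω := IsSepClosed.lift
    let b : M₀ →ₐ[K] Ω := IsSepClosed.lift
    let L' := (a.fieldRange ⊔ b.fieldRange : IntermediateField K Ω)
    haveI : FiniteDimensional K a.fieldRange := a.toLinearMap.finiteDimensional_range
    haveI : FiniteDimensional K b.fieldRange := b.toLinearMap.finiteDimensional_range
    haveI : FiniteDimensional K L' := IntermediateField.finiteDimensional_sup _ _
    haveI : Algebra.IsSeparable K L' := Algebra.isSeparable_tower_bot_of_isSeparable K L' Ω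
    let a' : L →+* L' := (IntermediateField.inclusion (le_sup_left : a.fieldRange ≤ L')).toRingHom.comp a.rangeRestrict.toRingHom
    let b' : M₀ →+* L' := (IntermediateField.inclusion (le_sup_right : b.fieldRange ≤ L')).toRingHom.comp b.rangeRestrict.toRingHom
    letI := b'.toAlgebra
    haveI : IsScalarTower K M₀ L' := .of_algebraMap_eq fun x => Subtype.ext (b.commutes x).symm
    haveI : FiniteDimensional M₀ L' := FiniteDimensional.right K M₀ L'
    haveI : Algebra.IsSeparable M₀ L' := Algebra.isSeparable_tower_top_of_isSeparable K M₀ L'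
    have hne' : ¬ Subsingleton (EtCoh.H (Spec (CommRingCat.of L')) (EtCoh.const (Spec (CommRingCat.of L')) (ZMod p)) (n + 1)) :=
      fun h => hne (subsingleton_of_extension (goodZ_of_cohDimLLE hcd (Nat.lt_succ_self _)) h)
    refine ⟨L', inferInstance, inferInstance, inferInstance, inferInstance, ?_⟩
    let f₀ := Spec.map (CommRingCat.ofHom (algebraMap K L))
    let fa := Spec.map (CommRingCat.ofHom a')
    let f' := Spec.map (CommRingCat.ofHom (algebraMap K L'))
    have hf : fa ≫ f₀ = f' := by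
      rw [← Spec.map_comp]
      refine congrArg Spec.map (CommRingCat.hom_ext (RingHom.ext fun x => Subtype.ext (a.commutes x)))
    let G := (EtCoh.pull f').obj F
    let θ : EtConsAb.constAb M (Spec (CommRingCat.of L')) ≅ G :=
      ((EtCore.pullConstIso fa).app (AddCommGrpCat.of M)).symm ≪≫ (EtCoh.pull fa).mapIso χ ≪≫
        (EtConsAb.pullComp f₀ fa).app F ≪≫ (EtConsAb.pullCongr hf).app F
    obtain ⟨ψ, hψ⟩ := nonempty_hom_zmod (p := p) hMp
    let ψ' : AddCommGrpCat.of M ⟶ AddCommGrpCat.of (ULift.{u + 1} (ZMod p)) :=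
      AddCommGrpCat.ofHom (AddEquiv.ulift.symm.toAddMonoidHom.comp ψ)
    haveI : Epi ψ' := (AddCommGrpCat.epi_iff_surjective _).2 (AddEquiv.ulift.symm.surjective.comp hψ)
    haveI : (constantSheaf (Spec (CommRingCat.of L')).smallEtaleTopology AddCommGrpCat.{u + 1}).IsLeftAdjoint :=
      ⟨_, ⟨EtCore.constAdj _⟩⟩
    let q : G ⟶ EtCoh.const (Spec (CommRingCat.of L')) (ZMod p) :=
      θ.inv ≫ (constantSheaf _ AddCommGrpCat.{u + 1}).map ψ'
    haveI : Epi q := epi_comp _ _
    -- the kernel is killed by a power of `p`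
    haveI : Finite ((EtCoh.stalk (EtFin.pt L')).obj G) := by
      haveI : Finite ((EtCoh.stalk (EtFin.pt L' ≫ f')).obj F) := EtConsAb.finite_stalk_of_isConstructible hFc _
      exact Finite.of_equiv _ ((stalkPullIso f' (EtFin.pt L')).app F).addCommGroupIsoToAddEquiv.symm.toEquiv
    obtain ⟨c, hc⟩ := exists_pow_nsmul_id (p := p) (G := G) fun e => by
      let w := ((stalkPullIso f' (EtFin.pt L')).app F).addCommGroupIsoToAddEquiv
      obtain ⟨k, hk⟩ := exists_pow_nsmul_stalk hF _ (w e)
      exact ⟨k, w.injective (by rw [map_nsmul, hk, map_zero])⟩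
    have hker : p ^ c • 𝟙 (kernel q) = 0 := by
      rw [← cancel_mono (kernel.ι q), zero_comp, Preadditive.nsmul_comp, Category.id_comp, ← Category.comp_id (kernel.ι q),
        ← Preadditive.comp_nsmul, hc, comp_zero]
    let S : ShortComplex (EtCoh.Ab (Spec (CommRingCat.of L'))) := ShortComplex.mk (kernel.ι q) q (kernel.condition q)
    have hS : S.ShortExact := { exact := ShortComplex.exact_kernel q }
    by_contra hnt
    rw [not_nontrivial_iff_subsingleton] at hnt
    refine hne' (subsingleton_of_forall_eq 0 fun x => ?_)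
    obtain ⟨y, hy⟩ := Abelian.Ext.covariant_sequence_exact₃ _ hS x (rfl : n + 1 + 1 = n + 1 + 1)
      (EtDev.torsion_vanish (Nat.succ_pos _) (goodZ_of_cohDimLLE hcd (Nat.lt_succ_self _)) _
        (EtNsmul.isTorsion_of_nsmul_id (pow_pos hp.pos c) hker) _ c (EtNsmul.nsmul_H_eq_zero hker _))
    have hy0 : y = 0 := hnt.elim y 0
    rw [← hy, hy0, Abelian.Ext.zero_comp]

end Groth.Agent.EtCdTop
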